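import Groth.Agent.H7Lim.QuasiFiniteFactor
import Groth.Agent.H17.SchDense
import Mathlib.AlgebraicGeometry.Morphisms.SchemeTheoreticallyDominant
import Mathlib.AlgebraicGeometry.Noetherian

/-!
# A finite surjective morphism over an open is dominated by one over the whole scheme
-/

set_option autoImplicit false
set_option backward.isDefEq.respectTransparency false
set_option linter.style.haveILetI false

universe u

open CategoryTheory CategoryTheory.Limits AlgebraicGeometry TopologicalSpace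

namespace Groth.Agent.H13Alter

/-- Every finite surjective morphism onto an open of a Noetherian scheme is, over the open, dominated
by a finite surjective morphism onto the scheme. -/
theorem exists_finite_surjective_extension {Y : Scheme.{u}} [IsNoetherian Y] (U : Y.Opens) {U' : Scheme.{u}}
    (v : U' ⟶ U.toScheme) [IsFinite v] [Surjective v] :
    ∃ (Y' : Scheme.{u}) (g : Y' ⟶ Y), IsFinite g ∧ Surjective g ∧
      ∃ t : (g ⁻¹ᵁ U).toScheme ⟶ U', t ≫ v = g ∣_ U := by
  haveI : QuasiCompact U.ι := inferInstance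
  haveI : LocallyQuasiFinite (v ≫ U.ι) := inferInstance
  haveI : LocallyOfFiniteType (v ≫ U.ι) := inferInstance
  haveI : IsSeparated (v ≫ U.ι) := inferInstance
  obtain ⟨T, j, π, hj, hjqc, hπ, hjπ⟩ := H7Lim.exists_openImmersion_finite (v ≫ U.ι)
  let a := j.toImage
  let π' : j.image ⟶ Y := j.imageι ≫ π
  have ha : a ≫ π' = v ≫ U.ι := by rw [← hjπ]; simp [a, π']
  haveI : Mono (a ≫ j.imageι) := by rw [Scheme.Hom.toImage_imageι]; infer_instance
  haveI : Mono a := mono_of_mono a j.imageι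
  haveI : IsSchemeTheoreticallyDominant a := ⟨H17.ker_toImage j⟩
  let h := a ∣_ (π' ⁻¹ᵁ U)
  have htop : a ⁻¹ᵁ (π' ⁻¹ᵁ U) = ⊤ := top_unique fun z _ => by
    show π' (a z) ∈ U
    rw [← Scheme.Hom.comp_apply, ha, Scheme.Hom.comp_apply]
    exact (v z).2
  haveI : IsIso (a ⁻¹ᵁ (π' ⁻¹ᵁ U)).ι := by rw [htop]; exact inferInstanceAs (IsIso U'.topIso.hom)
  have hcomp : h ≫ (π' ∣_ U) = (a ⁻¹ᵁ (π' ⁻¹ᵁ U)).ι ≫ v := by
    rw [← cancel_mono U.ι, Category.assoc, Category.assoc, morphismRestrict_ι, ← ha]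
    exact morphismRestrict_ι_assoc a (π' ⁻¹ᵁ U) π'
  haveI : IsFinite (h ≫ (π' ∣_ U)) := by rw [hcomp]; infer_instance
  haveI : IsFinite h := IsFinite.of_comp h (π' ∣_ U)
  haveI : Mono h := MorphismProperty.of_isPullback (P := MorphismProperty.monomorphisms Scheme.{u})
    (isPullback_morphismRestrict a (π' ⁻¹ᵁ U)).flip (inferInstanceAs (Mono a))
  haveI : IsClosedImmersion h := (IsClosedImmersion.iff_isFinite_and_mono h).2 ⟨inferInstance, inferInstance⟩
  haveI : IsSchemeTheoreticallyDominant h :=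
    IsSchemeTheoreticallyDominant.of_isPullback (isPullback_morphismRestrict a (π' ⁻¹ᵁ U)).flip
  haveI : IsIso h := IsClosedImmersion.isIso_iff_ker_eq_bot.2 h.ker_eq_bot
  let Z : Closeds Y := ⟨(U : Set Y)ᶜ, U.2.isClosed_compl⟩
  let J := Scheme.IdealSheafData.vanishingIdeal Z
  let g : j.image ⨿ J.subscheme ⟶ Y := coprod.desc π' J.subschemeι
  have hZ : Set.range J.subschemeι = (U : Set Y)ᶜ := by
    rw [Scheme.IdealSheafData.range_subschemeι, Scheme.IdealSheafData.coe_support_vanishingIdeal]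
    rfl
  haveI : IsFinite π' := inferInstance
  refine ⟨_, g, inferInstance, ⟨fun y => ?_⟩, ?_⟩
  · by_cases hy : y ∈ U
    · obtain ⟨z, hz⟩ := v.surjective ⟨y, hy⟩
      refine ⟨(coprod.inl : j.image ⟶ _) (a z), ?_⟩
      rw [← Scheme.Hom.comp_apply, coprod.inl_desc, ← Scheme.Hom.comp_apply, ha, Scheme.Hom.comp_apply, hz]
      rfl
    · obtain ⟨z, hz⟩ : y ∈ Set.range J.subschemeι := by rw [hZ]; exact hy
      refine ⟨(coprod.inr : J.subscheme ⟶ _) z, ?_⟩
      rw [← Scheme.Hom.comp_apply, coprod.inr_desc, hz]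
  · have hsub : Set.range (g ⁻¹ᵁ U).ι ⊆ Set.range ((π' ⁻¹ᵁ U).ι ≫ (coprod.inl : j.image ⟶ j.image ⨿ J.subscheme)) := by
      rintro _ ⟨⟨z, hz⟩, rfl⟩
      rcases (isCompl_range_inl_inr j.image J.subscheme).codisjoint.eq_top.ge (Set.mem_univ z) with ⟨w, hw⟩ | ⟨w, hw⟩
      · refine ⟨⟨w, ?_⟩, hw⟩
        show π' w ∈ U
        have h1 : g z ∈ U := hz
        rwa [← hw, ← Scheme.Hom.comp_apply, coprod.inl_desc] at h1
      · exfalso
        have h1 : g z ∈ U := hz
        rw [← hw, ← Scheme.Hom.comp_apply, coprod.inr_desc] at h1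
        exact hZ.le ⟨w, rfl⟩ h1
    let m := IsOpenImmersion.lift _ _ hsub
    have hm : m ≫ (π' ⁻¹ᵁ U).ι ≫ coprod.inl = (g ⁻¹ᵁ U).ι := IsOpenImmersion.lift_fac _ _ _
    refine ⟨m ≫ inv h ≫ (a ⁻¹ᵁ (π' ⁻¹ᵁ U)).ι, ?_⟩
    rw [Category.assoc, Category.assoc, ← hcomp, IsIso.inv_hom_id_assoc, ← cancel_mono U.ι, Category.assoc,
      morphismRestrict_ι, morphismRestrict_ι, ← hm, Category.assoc, Category.assoc, coprod.inl_desc]

end Groth.Agent.H13Alter
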