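import Groth.Agent.H13Alter.Extend
import Mathlib.RingTheory.AdjoinRoot
import Mathlib.AlgebraicGeometry.AlgClosed.Basic
import Mathlib.RingTheory.Flat.FaithfullyFlat.Algebra

/-!
# Finite surjective morphisms over which integral schemes lift to a finite scheme
-/

set_option autoImplicit false
set_option backward.isDefEq.respectTransparency false
set_option linter.style.haveILetI false

universe u

open CategoryTheory CategoryTheory.Limits AlgebraicGeometry TopologicalSpace Polynomial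

namespace Groth.Agent.H13Alter

theorem exists_splits {R : Type u} [CommRing R] [Nontrivial R] {κ : Type*} (P : κ → R[X])
    (hP : ∀ i, (P i).Monic) (s : Finset κ) :
    ∃ (R' : Type u) (_ : CommRing R') (_ : Algebra R R') (_ : Module.Finite R R') (_ : Module.Free R R')
      (_ : Nontrivial R'), ∀ i ∈ s, ((P i).map (algebraMap R R')).Splits := by
  classical
  induction s using Finset.induction with
  | empty => exact ⟨R, inferInstance, inferInstance, inferInstance, inferInstance, inferInstance, by simp⟩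
  | insert i s _ ih =>
    obtain ⟨R₁, _, _, _, _, _, hs⟩ := ih
    obtain ⟨S, _, _, _, _, _, hS⟩ := ((hP i).map (algebraMap R R₁)).exists_splits_map
    letI : Algebra R S := ((algebraMap R₁ S).comp (algebraMap R R₁)).toAlgebra
    haveI : IsScalarTower R R₁ S := IsScalarTower.of_algebraMap_eq fun _ => rfl
    refine ⟨S, inferInstance, inferInstance, .trans R₁ S, .trans (S := R₁), inferInstance, fun j hj => ?_⟩
    rw [IsScalarTower.algebraMap_eq R R₁ S, ← Polynomial.map_map]
    rcases Finset.mem_insert.mp hj with rfl | hj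
    · exact hS
    · exact (hs j hj).map _

/-- A finite algebra becomes contained in the image of a suitable finite faithfully flat algebra in
every domain over it. -/
theorem exists_splitting_algebra {A B : Type u} [CommRing A] [CommRing B] [Algebra A B] [Module.Finite A B] :
    ∃ (R' : Type u) (_ : CommRing R') (ι : A →+* R'), ι.Finite ∧
      Function.Surjective (PrimeSpectrum.comap ι) ∧
      ∀ (Ω : Type u) [CommRing Ω] [IsDomain Ω] (ψ : R' →+* Ω) (β : B →+* Ω),
        β.comp (algebraMap A B) = ψ.comp ι → β.range ≤ ψ.range := by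
  classical
  rcases subsingleton_or_nontrivial A with hA | hA
  · refine ⟨A, inferInstance, RingHom.id A, RingHom.Finite.id A, fun p => ⟨p, rfl⟩,
      fun Ω _ _ ψ β h => ?_⟩
    have h1 : (1 : Ω) = 0 := by rw [← map_one ψ, Subsingleton.elim (1 : A) 0, map_zero]
    exact absurd h1 one_ne_zero
  obtain ⟨G, hG⟩ := Module.Finite.fg_top (R := A) (M := B)
  choose P hP hPx using fun x : B => Algebra.IsIntegral.isIntegral (R := A) x
  obtain ⟨R', _, _, hfin, hfree, hnt, hsplit⟩ := exists_splits P hP G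
  refine ⟨R', inferInstance, algebraMap A R', RingHom.finite_algebraMap.2 hfin, ?_, fun Ω _ _ ψ β h => ?_⟩
  · haveI : Algebra.IsIntegral A R' := Algebra.IsIntegral.of_finite A R'
    exact PrimeSpectrum.comap_surjective_of_faithfullyFlat
  letI : Algebra A Ω := (ψ.comp (algebraMap A R')).toAlgebra
  let βA : B →ₐ[A] Ω := ⟨β, fun a => congr($h a)⟩
  let ψA : R' →ₐ[A] Ω := ⟨ψ, fun _ => rfl⟩
  suffices hβ : ∀ b ∈ G, βA b ∈ ψA.range by
    rintro _ ⟨b, rfl⟩
    have hb : b ∈ Submodule.span A (G : Set B) := hG ▸ trivial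
    suffices hs : βA b ∈ ψA.range from hs
    induction hb using Submodule.span_induction with
    | mem x hx => exact hβ x hx
    | zero => rw [map_zero]; exact ψA.range.zero_mem
    | add x y _ _ hx hy => rw [map_add]; exact ψA.range.add_mem hx hy
    | smul a x _ hx => rw [map_smul]; exact ψA.range.smul_mem hx a
  intro b hb
  obtain ⟨m, hm⟩ := Polynomial.splits_iff_exists_multiset'.mp (hsplit b hb)
  rw [((hP b).map _).leadingCoeff, map_one, one_mul] at hm
  have h0 : ((P b).map (algebraMap A Ω)).eval (βA b) = 0 := by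
    rw [Polynomial.eval_map, ← βA.comp_algebraMap]
    show (P b).eval₂ ((β).comp (algebraMap A B)) (β b) = 0
    rw [← Polynomial.hom_eval₂, hPx b, map_zero]
  rw [show algebraMap A Ω = ψ.comp (algebraMap A R') from rfl, ← Polynomial.map_map, hm,
    Polynomial.map_multiset_prod, Polynomial.eval_multiset_prod, Multiset.prod_eq_zero_iff,
    Multiset.map_map, Multiset.map_map, Multiset.mem_map] at h0
  obtain ⟨r, -, hr⟩ := h0
  refine ⟨-r, ?_⟩
  simp only [Function.comp_apply, Polynomial.map_add, Polynomial.map_X, Polynomial.map_C, Polynomial.eval_add,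
    Polynomial.eval_X, Polynomial.eval_C] at hr
  show ψA (-r) = βA b
  rw [map_neg]
  exact (eq_neg_of_add_eq_zero_left hr).symm

/-- For a finite morphism `h` and an affine open `U` there is a finite surjective morphism over which
every map to `h⁻¹U` defined at a dominant geometric point is defined on all of an affine piece. -/
theorem exists_piece {Y F : Scheme.{u}} [IsNoetherian Y] (h : F ⟶ Y) [IsFinite h] {U : Y.Opens}
    (hU : IsAffineOpen U) :
    ∃ (Y' : Scheme.{u}) (g : Y' ⟶ Y), IsFinite g ∧ Surjective g ∧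
      ∀ (W : Scheme.{u}) [IsAffine W] [IsReduced W] (Ω : Type u) [Field Ω] (π : W ⟶ Y')
        (η : Spec (CommRingCat.of Ω) ⟶ W) [IsDominant η] (p : Spec (CommRingCat.of Ω) ⟶ F),
        (∀ w, g (π w) ∈ U) → p ≫ h = η ≫ π ≫ g → ∃ φ : W ⟶ F, φ ≫ h = π ≫ g ∧ η ≫ φ = p := by
  have hB := hU.preimage h
  letI : Algebra Γ(Y, U) Γ(F, h ⁻¹ᵁ U) := (h.app U).hom.toAlgebra
  haveI : Module.Finite Γ(Y, U) Γ(F, h ⁻¹ᵁ U) := IsFinite.finite_app h U hU
  obtain ⟨R', _, ι, hιfin, hιsurj, hR'⟩ := exists_splitting_algebra (A := Γ(Y, U)) (B := Γ(F, h ⁻¹ᵁ U))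
  haveI : IsFinite (Spec.map (CommRingCat.ofHom ι)) := (IsFinite.SpecMap_iff _).2 hιfin
  haveI : Surjective (Spec.map (CommRingCat.ofHom ι)) := ⟨hιsurj⟩
  haveI : IsAffine U.toScheme := hU
  let v : Spec (CommRingCat.of R') ⟶ U.toScheme := Spec.map (CommRingCat.ofHom ι) ≫ hU.isoSpec.inv
  obtain ⟨Y', g, hg, hgs, t, ht⟩ := exists_finite_surjective_extension U v
  refine ⟨Y', g, hg, hgs, fun W _ _ Ω _ π η _ p hπ hp => ?_⟩
  have hsub : Set.range π ⊆ Set.range (g ⁻¹ᵁ U).ι := by
    rintro _ ⟨w, rfl⟩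
    rw [Scheme.Opens.range_ι]
    exact hπ w
  obtain ⟨ψ, hψ⟩ := Spec.map_surjective (W.isoSpec.inv ≫ IsOpenImmersion.lift (g ⁻¹ᵁ U).ι π hsub ≫ t)
  obtain ⟨ρ, hρ⟩ := Spec.map_surjective (η ≫ W.isoSpec.hom)
  have hsubp : Set.range p ⊆ Set.range hB.fromSpec := by
    rintro _ ⟨z, rfl⟩
    rw [hB.range_fromSpec]
    show h (p z) ∈ U
    rw [← Scheme.Hom.comp_apply, hp, Scheme.Hom.comp_apply, Scheme.Hom.comp_apply]
    exact hπ _
  obtain ⟨β, hβ⟩ := Spec.map_surjective (IsOpenImmersion.lift hB.fromSpec p hsubp)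
  have hpβ : Spec.map β ≫ hB.fromSpec = p := by rw [hβ, IsOpenImmersion.lift_fac]
  have hπg : Spec.map ψ ≫ Spec.map (CommRingCat.ofHom ι) ≫ hU.fromSpec = W.isoSpec.inv ≫ π ≫ g := by
    rw [← hU.isoSpec_inv_ι, ← Category.assoc (Spec.map (CommRingCat.ofHom ι)), ← Category.assoc (Spec.map ψ), hψ]
    simp only [Category.assoc]
    rw [show Spec.map (CommRingCat.ofHom ι) ≫ hU.isoSpec.inv ≫ U.ι = v ≫ U.ι from (Category.assoc _ _ _).symm,
      reassoc_of% ht, morphismRestrict_ι, IsOpenImmersion.lift_fac_assoc]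
  have happ : h.app U ≫ β = CommRingCat.ofHom ι ≫ ψ ≫ ρ := by
    apply Spec.map_injective
    rw [← cancel_mono hU.fromSpec]
    simp only [Spec.map_comp, Category.assoc]
    rw [hρ, hπg, Category.assoc, Iso.hom_inv_id_assoc, ← hp, ← hpβ, Category.assoc, Scheme.Hom.app_eq_appLE,
      IsAffineOpen.SpecMap_appLE_fromSpec h hU hB le_rfl]
  have hrange : β.hom.range ≤ ρ.hom.range := by
    refine (hR' Ω (ρ.hom.comp ψ.hom) β.hom ?_).trans ?_
    · exact congr(($happ).hom)
    · rintro _ ⟨x, rfl⟩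
      exact ⟨ψ.hom x, rfl⟩
  have hρinj : Function.Injective ρ.hom := by
    have hdom : IsDominant (Spec.map ρ) := by rw [hρ]; infer_instance
    haveI : IsReduced (Spec Γ(W, ⊤)) := isReduced_of_isOpenImmersion W.isoSpec.inv
    haveI : _root_.IsReduced Γ(W, ⊤) := inferInstance
    rw [RingHom.injective_iff_ker_eq_bot, ← le_bot_iff]
    exact ((PrimeSpectrum.denseRange_comap_iff_ker_le_nilRadical ρ.hom).1 hdom.1).trans_eq (nilradical_eq_zero Γ(W, ⊤))
  choose lift hlift using fun b : Γ(F, h ⁻¹ᵁ U) => hrange ⟨b, rfl⟩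
  let φ₀ : Γ(F, h ⁻¹ᵁ U) →+* Γ(W, ⊤) :=
    { toFun := lift
      map_one' := hρinj (by rw [hlift, map_one, map_one])
      map_mul' := fun a b => hρinj (by rw [hlift, map_mul, map_mul, hlift, hlift])
      map_zero' := hρinj (by rw [hlift, map_zero, map_zero])
      map_add' := fun a b => hρinj (by rw [hlift, map_add, map_add, hlift, hlift]) }
  have hφ₀ : CommRingCat.ofHom φ₀ ≫ ρ = β := CommRingCat.hom_ext (RingHom.ext hlift)
  have happ' : h.app U ≫ CommRingCat.ofHom φ₀ = CommRingCat.ofHom ι ≫ ψ := by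
    refine CommRingCat.hom_ext (RingHom.ext fun a => hρinj ?_)
    exact (hlift (h.app U a)).trans congr($happ a)
  refine ⟨W.isoSpec.hom ≫ Spec.map (CommRingCat.ofHom φ₀) ≫ hB.fromSpec, ?_, ?_⟩
  · rw [Category.assoc, Category.assoc, ← IsAffineOpen.SpecMap_appLE_fromSpec h hU hB le_rfl,
      ← Spec.map_comp_assoc, ← Scheme.Hom.app_eq_appLE, happ', Spec.map_comp, Category.assoc, hπg,
      Iso.hom_inv_id_assoc]
  · rw [← Category.assoc, ← hρ, ← Spec.map_comp_assoc, hφ₀, hpβ]

/-- For a finite morphism there is a finite surjective morphism over which every integral scheme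
lifts as soon as its geometric generic point does. -/
theorem exists_lift {Y F : Scheme.{u}} [IsNoetherian Y] (h : F ⟶ Y) [IsFinite h] :
    ∃ (Y' : Scheme.{u}) (g : Y' ⟶ Y), IsFinite g ∧ Surjective g ∧
      ∀ (G : Scheme.{u}) [IsIntegral G] (Ω : Type u) [Field Ω] (π : G ⟶ Y') [IsAffineHom π]
        (η : Spec (CommRingCat.of Ω) ⟶ G) [IsDominant η] (p : Spec (CommRingCat.of Ω) ⟶ F),
        p ≫ h = η ≫ π ≫ g → ∃ φ : G ⟶ F, φ ≫ h = π ≫ g := by
  classical
  have key : ∀ s : Finset Y.affineOpens, ∃ (Y' : Scheme.{u}) (g : Y' ⟶ Y), IsFinite g ∧ Surjective g ∧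
      ∀ U ∈ s, ∀ (W : Scheme.{u}) [IsAffine W] [IsReduced W] (Ω : Type u) [Field Ω] (π : W ⟶ Y')
        (η : Spec (CommRingCat.of Ω) ⟶ W) [IsDominant η] (p : Spec (CommRingCat.of Ω) ⟶ F),
        (∀ w, g (π w) ∈ U.1) → p ≫ h = η ≫ π ≫ g → ∃ φ : W ⟶ F, φ ≫ h = π ≫ g ∧ η ≫ φ = p := by
    intro s
    induction s using Finset.induction with
    | empty => exact ⟨Y, 𝟙 Y, inferInstance, inferInstance, by simp⟩
    | insert U s _ ih =>
      obtain ⟨Y₁, g₁, hg₁, hg₁s, h₁⟩ := ih
      obtain ⟨Y₂, g₂, hg₂, hg₂s, h₂⟩ := exists_piece h U.2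
      refine ⟨pullback g₁ g₂, pullback.fst g₁ g₂ ≫ g₁, inferInstance, inferInstance, fun V hV W _ _ Ω _ π η _ p hπ hp => ?_⟩
      rcases Finset.mem_insert.1 hV with rfl | hV
      · obtain ⟨φ, hφ, hφ'⟩ := h₂ W Ω (π ≫ pullback.snd g₁ g₂) η p
          (fun w => by rw [← Scheme.Hom.comp_apply, Category.assoc, ← pullback.condition]; exact hπ w)
          (by rw [hp, Category.assoc, ← pullback.condition])
        exact ⟨φ, by rw [hφ, Category.assoc, ← pullback.condition], hφ'⟩
      · obtain ⟨φ, hφ, hφ'⟩ := h₁ V hV W Ω (π ≫ pullback.fst g₁ g₂) η p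
          (fun w => by rw [← Scheme.Hom.comp_apply, Category.assoc]; exact hπ w)
          (by rw [hp, Category.assoc])
        exact ⟨φ, by rw [hφ, Category.assoc], hφ'⟩
  obtain ⟨s, hs⟩ := isCompact_univ.elim_finite_subcover (fun U : Y.affineOpens => (U.1 : Set Y)) (fun U => U.1.2)
    (fun y _ => by
      obtain ⟨U, hU, hyU, -⟩ := exists_isAffineOpen_mem_and_subset (X := Y) (x := y) (U := ⊤) trivial
      exact Set.mem_iUnion.2 ⟨⟨U, hU⟩, hyU⟩)
  obtain ⟨Y', g, hg, hgs, hs'⟩ := key s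
  refine ⟨Y', g, hg, hgs, fun G _ Ω _ π _ η _ p hp => ?_⟩
  have hpt : ∀ y : G, ∃ (W : G.Opens) (f : W.toScheme ⟶ F) (hη : Set.range η ⊆ Set.range W.ι),
      y ∈ W ∧ f ≫ h = W.ι ≫ π ≫ g ∧ IsOpenImmersion.lift W.ι η hη ≫ f = p := by
    intro y
    obtain ⟨U, hUs, hyU⟩ := Set.mem_iUnion₂.1 (hs (Set.mem_univ ((π ≫ g) y)))
    let W := (π ≫ g) ⁻¹ᵁ U.1
    haveI : IsAffine W.toScheme := U.2.preimage (π ≫ g)
    have hmem : ∀ z, η z ∈ W := fun z => by
      obtain ⟨w, hwW, ⟨z', rfl⟩⟩ := η.denseRange.inter_open_nonempty _ W.2 ⟨y, hyU⟩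
      rwa [Subsingleton.elim z z']
    have hη : Set.range η ⊆ Set.range W.ι := by
      rintro _ ⟨z, rfl⟩
      rw [Scheme.Opens.range_ι]
      exact hmem z
    haveI : IsDominant (IsOpenImmersion.lift W.ι η hη) := by
      refine ⟨fun w => W.ι.isEmbedding.isInducing.closure_eq_preimage_closure_image _ ▸ ?_⟩
      show W.ι w ∈ closure (W.ι '' Set.range (IsOpenImmersion.lift W.ι η hη))
      rw [← Set.range_comp, ← TopCat.coe_comp, ← Scheme.Hom.comp_base, IsOpenImmersion.lift_fac]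
      exact η.denseRange _
    obtain ⟨f, hf, hf'⟩ := hs' U hUs W.toScheme Ω (W.ι ≫ π) (IsOpenImmersion.lift W.ι η hη) p
      (fun w => by rw [← Scheme.Hom.comp_apply, Category.assoc, Scheme.Hom.comp_apply]; exact w.2)
      (by rw [hp, Category.assoc, IsOpenImmersion.lift_fac_assoc])
    exact ⟨W, f, hη, hyU, by rw [hf, Category.assoc], hf'⟩
  choose W f hη hmem hf hfη using hpt
  let 𝒰 := Scheme.openCoverOfIsOpenCover G W (eq_top_iff.2 fun y _ => Opens.mem_iSup.2 ⟨y, hmem y⟩)
  have hglue : ∀ i k, pullback.fst (𝒰.f i) (𝒰.f k) ≫ f i = pullback.snd (𝒰.f i) (𝒰.f k) ≫ f k := by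
    intro i k
    change pullback.fst (W i).ι (W k).ι ≫ f i = pullback.snd (W i).ι (W k).ι ≫ f k
    let P := pullback (W i).ι (W k).ι
    haveI : IsOpenImmersion (pullback.fst (W i).ι (W k).ι ≫ (W i).ι) := inferInstance
    haveI : IsReduced P := isReduced_of_isOpenImmersion (pullback.fst (W i).ι (W k).ι ≫ (W i).ι)
    let l : Spec (CommRingCat.of Ω) ⟶ P := pullback.lift (IsOpenImmersion.lift (W i).ι η (hη i))
      (IsOpenImmersion.lift (W k).ι η (hη k)) (by rw [IsOpenImmersion.lift_fac, IsOpenImmersion.lift_fac])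
    haveI : IsDominant l := by
      refine ⟨fun w => (pullback.fst (W i).ι (W k).ι ≫ (W i).ι).isEmbedding.isInducing.closure_eq_preimage_closure_image _ ▸ ?_⟩
      show _ ∈ closure (_ '' Set.range l)
      rw [← Set.range_comp, ← TopCat.coe_comp, ← Scheme.Hom.comp_base, pullback.lift_fst_assoc, IsOpenImmersion.lift_fac]
      exact η.denseRange _
    refine ext_of_isDominant_of_isSeparated h ?_ l ?_
    · simp only [Category.assoc, hf, pullback.condition_assoc]
    · simp only [l, pullback.lift_fst_assoc, pullback.lift_snd_assoc, hfη]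
  refine ⟨𝒰.glueMorphisms f hglue, 𝒰.hom_ext _ _ fun i => ?_⟩
  rw [Scheme.Cover.ι_glueMorphisms_assoc]
  exact hf i

/-- A nonempty scheme of finite type over an algebraically closed field has a rational point. -/
theorem exists_point {K : Type u} [Field K] [IsAlgClosed K] {Z : Scheme.{u}} [Nonempty Z]
    (f : Z ⟶ Spec (CommRingCat.of K)) [LocallyOfFiniteType f] :
    ∃ e : Spec (CommRingCat.of K) ⟶ Z, e ≫ f = 𝟙 _ := by
  haveI : JacobsonSpace Z := LocallyOfFiniteType.jacobsonSpace f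
  obtain ⟨w, -, hwc⟩ := nonempty_inter_closedPoints (Z := (Set.univ : Set Z)) Set.univ_nonempty isOpen_univ.isLocallyClosed
  obtain ⟨p, -⟩ := (pointEquivClosedPoint f).surjective ⟨w, hwc⟩
  exact ⟨p.1, p.2⟩

end Groth.Agent.H13Alter
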